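import Cfsg.Agent.Lib.TwMult.Module
import Cfsg.Agent.Lib.TwMult.CoprimeD4

/-!
The unipotent radical of the parabolic subgroup of a short root in ³D₄(q): coordinates modulo the centre and the
action of the rank-one Levi subgroup, computed inside the Chevalley group of type D₄.
-/

set_option autoImplicit false
set_option maxRecDepth 100000
set_option linter.unusedSectionVars false
set_option linter.unusedSimpArgs false
set_option linter.style.haveILetI false

namespace CfsgLib.TwMult.D4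

open Cfsg.Lie CfsgLib.Chevalley CfsgLib.InvCentralizers.AutChev CfsgLib.InvCentralizers.AutTwisted
open CfsgLib.Twisted (fullD4 graphSigmaD4A graphEtaD4A graphTwist)
open CfsgLib.TwMult.Cubic

/-- The roots of the radical. -/
def rad : List ℕ := [14, 15, 16, 17, 19, 20, 21, 22, 23]

theorem rad_lt : ∀ r ∈ rad, r < chevD4.nroots := by decide +kernel

theorem rad_closed : (∀ r ∈ rad, chevD4.IsPosRoot r) ∧
    (∀ r ∈ rad, ∀ s ∈ rad, ∀ c ∈ chevD4.commTerms r s, c.1 = 23) ∧
    (∀ r ∈ rad, chevD4.commTerms r 23 = [] ∧ chevD4.commTerms 23 r = []) ∧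
    chevD4.IsPosRoot 18 ∧ chevD4.IsPosRoot 13 ∧ chevD4.IsPosRoot 12 := by
  decide +kernel

theorem termTab : ([18, 13, 12].map fun i => rad.map fun r => chevD4.commTerms i r) =
    [[[(19, -1, 1, 1)], [(20, -1, 1, 1)], [(21, -1, 1, 1)], [(22, -1, 1, 1)], [], [], [], [], []],
     [[(16, 1, 1, 1)], [(17, 1, 1, 1)], [], [], [(21, 1, 1, 1)], [(22, 1, 1, 1)], [], [], []],
     [[(15, 1, 1, 1)], [], [(17, 1, 1, 1)], [], [(20, 1, 1, 1)], [], [(22, 1, 1, 1)], [], []]] ∧
    chevD4.commTerms 14 22 = [(23, 1, 1, 1)] ∧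
    chevD4.commTerms 15 16 = [] ∧ chevD4.commTerms 15 19 = [] ∧ chevD4.commTerms 16 19 = [] ∧
    chevD4.commTerms 17 20 = [] ∧ chevD4.commTerms 17 21 = [] ∧ chevD4.commTerms 20 21 = [] := by
  decide +kernel

theorem reflTab : ([0, 2, 3].map fun i => rad.map fun r => (chevD4.reflectRoot i r, etaAt auxD4 i r)) =
    [[(19, -1), (20, -1), (21, -1), (22, -1), (14, 1), (15, 1), (16, 1), (17, 1), (23, 1)],
     [(16, 1), (17, 1), (14, -1), (15, -1), (21, 1), (22, 1), (19, -1), (20, -1), (23, 1)],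
     [(15, 1), (14, -1), (17, 1), (16, -1), (20, 1), (19, -1), (22, 1), (21, -1), (23, 1)]] := by
  decide +kernel

theorem twistTab : rad.map (fun r => (graphSigmaD4A r, graphEtaD4A r)) =
    [(14, 1), (19, -1), (15, 1), (20, -1), (16, -1), (21, 1), (17, -1), (22, 1), (23, 1)] := by
  decide +kernel

theorem rad_cartan : rad.map (fun r => [chevD4.cartan 0 r, chevD4.cartan 2 r, chevD4.cartan 3 r]) =
    [[-1, -1, -1], [-1, -1, 1], [-1, 1, -1], [-1, 1, 1], [1, -1, -1], [1, -1, 1], [1, 1, -1], [1, 1, 1],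
      [0, 0, 0]] := by
  decide +kernel

theorem rad_ne : ∀ i ∈ [18, 13, 12], ∀ r ∈ rad, r ≠ i ∧ r ≠ chevD4.neg i := by decide +kernel

theorem rad_ne' : ∀ i ∈ rad, ∀ r ∈ rad, r ≠ chevD4.neg i := by decide +kernel

variable {K : Type*} [Field K]

/-- Root element. -/
noncomputable abbrev xr (r : ℕ) (t : K) : GL chevD4.Idx K := xG fullD4.cert r t

theorem eq_one_of_mem_empty {v : GL chevD4.Idx K} (hv : v ∈ rootsU chevD4 K (∅ : Set ℕ)) : v = 1 := by
  induction hv using rootsU_induction fullD4.cert with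
  | h1 => rfl
  | hx c hc t => exact absurd hc (Set.notMem_empty c)
  | hmul a b _ _ ha hb => rw [ha, hb, one_mul]

theorem commute_xr {r s : ℕ} (hr : r < chevD4.nroots) (hs : s < chevD4.nroots) (hneg : s ≠ chevD4.neg r)
    (h : chevD4.commTerms r s = []) (t u : K) : Commute (xr r t) (xr s u) := by
  by_cases e : s = r
  · subst e
    show xr s t * xr s u = xr s u * xr s t
    rw [xG_mul, xG_mul, add_comm]
  obtain ⟨W, hW, e'⟩ := conj_xG (F := K) fullD4.toStd hr hs e hneg (T := ∅) (by simp [h]) t u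
  have hW1 : W = 1 := eq_one_of_mem_empty hW
  rw [hW1, mul_one] at e'
  exact mul_inv_eq_iff_eq_mul.1 e'

theorem conj_xr {r s c : ℕ} {M : ℤ} (hr : r < chevD4.nroots) (hs : s < chevD4.nroots) (hne : s ≠ r)
    (hneg : s ≠ chevD4.neg r) (h : chevD4.commTerms r s = [(c, M, 1, 1)]) (t u : K) :
    xr r t * xr s u * (xr r t)⁻¹ = xr s u * xr c ((M : K) * t * u) := by
  have h1 := x_mul_x (F := K) fullD4.toStd.mem hr hs hne hneg (-t) u
  rw [wordMat_eq_prod fullD4.cert] at h1
  simp only [ChevalleyDatum.commWord, h, List.map_cons, List.map_nil, neg_neg, pow_one, List.prod_cons,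
    List.prod_nil, mul_one] at h1
  have h' : xr s u * xr r (-t) = xr r (-t) * xr s u * xr c ((M : K) * t * u) :=
    Units.ext (by simpa using h1)
  simp only [xr] at h' ⊢
  rw [← xG_inv] at h'
  rw [mul_assoc, h', ← mul_assoc, ← mul_assoc, mul_inv_cancel, one_mul]

variable (K)

/-- The radical. -/
abbrev Q9 : Subgroup (GL chevD4.Idx K) := rootsU chevD4 K {r | r ∈ rad}

/-- Its centre. -/
abbrev D1 : Subgroup (GL chevD4.Idx K) := rootsU chevD4 K {r | r = 23}

variable {K}

theorem mem_D1 {v : GL chevD4.Idx K} (hv : v ∈ D1 K) : ∃ w, v = xr 23 w := by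
  induction hv using rootsU_induction fullD4.cert with
  | h1 => exact ⟨0, (xG_zero _ _).symm⟩
  | hx r hr t => exact ⟨t, by rw [show r = 23 from hr]⟩
  | hmul a b _ _ ha hb =>
    obtain ⟨u, rfl⟩ := ha
    obtain ⟨u', rfl⟩ := hb
    exact ⟨u + u', xG_mul _ _ _ _⟩

theorem xr_mem {r : ℕ} (hr : r ∈ rad) (t : K) : xr r t ∈ Q9 K :=
  xG_mem_rootsU fullD4.cert (S := {r | r ∈ rad}) hr t

theorem xr_mem_D1 (t : K) : xr 23 t ∈ D1 K := xG_mem_rootsU fullD4.cert (S := {r | r = 23}) rfl t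

theorem D1_le : D1 K ≤ Q9 K := rootsU_mono fun r hr => by
  rw [show r = 23 from hr]; decide

theorem commute_center {v : GL chevD4.Idx K} (hv : v ∈ Q9 K) (w : K) : Commute v (xr 23 w) := by
  induction hv using rootsU_induction fullD4.cert with
  | h1 => exact Commute.one_left _
  | hx r hr t =>
    exact commute_xr (rad_lt r hr) (rad_lt 23 (by decide)) (rad_ne' r hr 23 (by decide))
      (rad_closed.2.2.1 r hr).1 t w
  | hmul a b _ _ ha hb => exact ha.mul_left hb

instance normal_D1 : ((D1 K).subgroupOf (Q9 K)).Normal := by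
  refine ⟨fun d hd x => ?_⟩
  obtain ⟨w, hw⟩ := mem_D1 (show (d : GL chevD4.Idx K) ∈ D1 K from hd)
  have e : x * d * x⁻¹ = d := Subtype.ext (by
    rw [Subgroup.coe_mul, Subgroup.coe_mul, Subgroup.coe_inv, hw, (commute_center x.2 w).eq,
      mul_inv_cancel_right])
  rwa [e]

variable (K)

/-- The radical modulo its centre. -/
abbrev Mq : Type _ := ↥(Q9 K) ⧸ (D1 K).subgroupOf (Q9 K)

variable {K}

theorem Mq_comm (x y : Mq K) : x * y = y * x := by
  induction x using QuotientGroup.induction_on with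
  | H x =>
  induction y using QuotientGroup.induction_on with
  | H y =>
  rw [← QuotientGroup.mk_mul, ← QuotientGroup.mk_mul, QuotientGroup.eq]
  show ((x : GL chevD4.Idx K) * y)⁻¹ * ((y : GL chevD4.Idx K) * x) ∈ D1 K
  suffices h : ∀ a ∈ Q9 K, ∀ b ∈ Q9 K, a * b * a⁻¹ * b⁻¹ ∈ D1 K by
    have := h _ (inv_mem y.2) _ (inv_mem x.2)
    simpa [mul_assoc] using this
  have hc : ∀ a ∈ Q9 K, ∀ d ∈ D1 K, a * d * a⁻¹ = d := fun a ha d hd => by
    obtain ⟨w, rfl⟩ := mem_D1 hd
    rw [(commute_center ha w).eq, mul_inv_cancel_right]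
  have hgen : ∀ r ∈ rad, ∀ t, ∀ b ∈ Q9 K, xr r t * b * (xr r t)⁻¹ * b⁻¹ ∈ D1 K := by
    intro r hr t b hb
    induction hb using rootsU_induction fullD4.cert with
    | h1 => simp
    | hx s hs u =>
      by_cases e : s = r
      · subst e
        simp only [xr, xG_mul, xG_inv]
        rw [show t + u + -t + -u = 0 by ring, xG_zero]
        exact one_mem _
      obtain ⟨W, hW, e'⟩ := conj_xG (F := K) fullD4.toStd (rad_lt r hr) (rad_lt s hs) e (rad_ne' r hr s hs)
        (T := {r | r = 23}) (fun c hc => rad_closed.2.1 r hr s hs c hc) t u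
      rw [e']
      obtain ⟨w, rfl⟩ := mem_D1 hW
      rw [(commute_center (xr_mem hs u) w).eq, mul_inv_cancel_right]
      exact xr_mem_D1 w
    | hmul a b ha hb iha ihb =>
      have e : xr r t * (a * b) * (xr r t)⁻¹ * (a * b)⁻¹ =
          xr r t * a * (xr r t)⁻¹ * a⁻¹ * (a * (xr r t * b * (xr r t)⁻¹ * b⁻¹) * a⁻¹) := by group
      rw [e, hc a ha _ ihb]
      exact mul_mem iha ihb
  intro a ha b hb
  induction ha using rootsU_induction fullD4.cert with
  | h1 => simp
  | hx r hr t => exact hgen r hr t b hb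
  | hmul a a' ha ha' iha iha' =>
    have e : a * a' * b * (a * a')⁻¹ * b⁻¹ = a * (a' * b * a'⁻¹ * b⁻¹) * a⁻¹ * (a * b * a⁻¹ * b⁻¹) := by
      group
    rw [e, hc a ha _ iha']
    exact mul_mem iha' iha

noncomputable instance commMq : CommGroup (Mq K) :=
  { (inferInstance : Group (Mq K)) with mul_comm := Mq_comm }

/-- The class of an element of the radical. -/
noncomputable def cls (v : ↥(Q9 K)) : Additive (Mq K) := Additive.ofMul (v : Mq K)

theorem cls_mul (v w : ↥(Q9 K)) : cls (v * w) = cls v + cls w := rfl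

theorem cls_eq_zero {v : ↥(Q9 K)} : cls v = 0 ↔ (v : GL chevD4.Idx K) ∈ D1 K := by
  show (v : Mq K) = 1 ↔ _
  exact QuotientGroup.eq_one_iff v

/-- The class of a root element. -/
noncomputable def mu (r : ℕ) : K →+ Additive (Mq K) :=
  if hr : r ∈ rad then AddMonoidHom.mk' (fun t => cls ⟨xr r t, xr_mem hr t⟩) fun t u => by
    rw [← cls_mul]
    exact congrArg cls (Subtype.ext (xG_mul fullD4.cert r t u).symm)
  else 0

theorem mu_apply {r : ℕ} (hr : r ∈ rad) (t : K) : mu r t = cls ⟨xr r t, xr_mem hr t⟩ := by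
  simp [mu, hr]

/-- The class with the given eight coordinates. -/
noncomputable def vec (a14 a15 a16 a17 a19 a20 a21 a22 : K) : Additive (Mq K) :=
  mu 14 a14 + mu 15 a15 + mu 16 a16 + mu 17 a17 + mu 19 a19 + mu 20 a20 + mu 21 a21 + mu 22 a22

theorem vec_eq_zero {a14 a15 a16 a17 a19 a20 a21 a22 : K}
    (h : vec a14 a15 a16 a17 a19 a20 a21 a22 = 0) :
    a14 = 0 ∧ a15 = 0 ∧ a16 = 0 ∧ a17 = 0 ∧ a19 = 0 ∧ a20 = 0 ∧ a21 = 0 ∧ a22 = 0 := by
  simp only [vec, mu_apply (show 14 ∈ rad by decide), mu_apply (show 15 ∈ rad by decide),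
    mu_apply (show 16 ∈ rad by decide), mu_apply (show 17 ∈ rad by decide), mu_apply (show 19 ∈ rad by decide),
    mu_apply (show 20 ∈ rad by decide), mu_apply (show 21 ∈ rad by decide), mu_apply (show 22 ∈ rad by decide),
    ← cls_mul, cls_eq_zero, Subgroup.coe_mul] at h
  obtain ⟨w, hw⟩ := mem_D1 h
  let t : ℕ → K := fun r => if r = 14 then a14 else if r = 15 then a15 else if r = 16 then a16 else
    if r = 17 then a17 else if r = 19 then a19 else if r = 20 then a20 else if r = 21 then a21 else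
    if r = 22 then a22 else if r = 23 then -w else 0
  have e : prodU fullD4.cert rad t = prodU fullD4.cert rad (0 : ℕ → K) := by
    rw [CfsgLib.Twisted.prodU_zero fullD4.cert rad (0 : ℕ → K) fun _ _ => rfl]
    simp only [prodU, rad, t, List.map_cons, List.map_nil, List.prod_cons, List.prod_nil, mul_one,
      Nat.reduceEqDiff, if_true, if_false, ↓reduceIte]
    rw [← mul_assoc, ← mul_assoc, ← mul_assoc, ← mul_assoc, ← mul_assoc, ← mul_assoc, ← mul_assoc, hw,
      xG_mul, add_neg_cancel, xG_zero]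
  have hz := prodU_injOn fullD4.toStd (L := rad) (by decide)
    ⟨rad_closed.1, fun r hr s hs _ c hc => by
      show c.1 ∈ rad
      rw [rad_closed.2.1 r hr s hs c hc]; decide⟩ e
  refine ⟨?_, ?_, ?_, ?_, ?_, ?_, ?_, ?_⟩
  · simpa [t] using hz 14 (by decide)
  · simpa [t] using hz 15 (by decide)
  · simpa [t] using hz 16 (by decide)
  · simpa [t] using hz 17 (by decide)
  · simpa [t] using hz 19 (by decide)
  · simpa [t] using hz 20 (by decide)
  · simpa [t] using hz 21 (by decide)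
  · simpa [t] using hz 22 (by decide)

/-- The elements normalising the radical and centralising its centre. -/
def Nrm (g : GL chevD4.Idx K) : Prop :=
  (∀ v ∈ Q9 K, g * v * g⁻¹ ∈ Q9 K) ∧ ∀ d ∈ D1 K, g * d * g⁻¹ = d

theorem Nrm.mul {g g' : GL chevD4.Idx K} (h : Nrm g) (h' : Nrm g') : Nrm (g * g') := by
  refine ⟨fun v hv => ?_, fun d hd => ?_⟩
  · rw [show g * g' * v * (g * g')⁻¹ = g * (g' * v * g'⁻¹) * g⁻¹ by group]
    exact h.1 _ (h'.1 v hv)
  · rw [show g * g' * d * (g * g')⁻¹ = g * (g' * d * g'⁻¹) * g⁻¹ by group, h'.2 d hd, h.2 d hd]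

/-- Conjugation modulo the centre. -/
noncomputable def cj {g : GL chevD4.Idx K} (h : Nrm g) : Additive (Mq K) →+ Additive (Mq K) :=
  MonoidHom.toAdditive (QuotientGroup.lift ((D1 K).subgroupOf (Q9 K))
    ((QuotientGroup.mk' _).comp (MonoidHom.mk' (fun v : ↥(Q9 K) => (⟨g * (v : GL chevD4.Idx K) * g⁻¹, h.1 _ v.2⟩ : ↥(Q9 K)))
      fun v w => Subtype.ext (by simp only [Subgroup.coe_mul]; group)))
    (fun v hv => by
      rw [MonoidHom.mem_ker, MonoidHom.comp_apply, QuotientGroup.mk'_apply, QuotientGroup.eq_one_iff]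
      show g * (v : GL chevD4.Idx K) * g⁻¹ ∈ D1 K
      rw [h.2 (v : GL chevD4.Idx K) hv]; exact hv))

theorem cj_cls {g : GL chevD4.Idx K} (h : Nrm g) (v : ↥(Q9 K)) :
    cj h (cls v) = cls ⟨g * (v : GL chevD4.Idx K) * g⁻¹, h.1 _ v.2⟩ := rfl

theorem cj_mul {g g' : GL chevD4.Idx K} (h : Nrm g) (h' : Nrm g') (x : Additive (Mq K)) :
    cj (h.mul h') x = cj h (cj h' x) := by
  obtain ⟨v, rfl⟩ := QuotientGroup.mk_surjective (Additive.toMul x)
  show cj (h.mul h') (cls v) = cj h (cj h' (cls v))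
  simp only [cj_cls]
  exact congrArg cls (Subtype.ext (by simp only; group))

theorem cj_congr {g g' : GL chevD4.Idx K} (h : Nrm g) (h' : Nrm g') (e : g = g') : cj h = cj h' := by
  subst e; rfl

theorem nrm_x {i : ℕ} (hi : i ∈ [18, 13, 12]) (t : K) : Nrm (xr i t) := by
  have hi' : i < chevD4.nroots := by
    simp only [List.mem_cons, List.not_mem_nil, or_false] at hi
    rcases hi with rfl | rfl | rfl <;> decide +kernel
  have hcase : ∀ r ∈ rad, chevD4.commTerms i r = [] ∨
      ∃ c M, chevD4.commTerms i r = [(c, M, 1, 1)] ∧ c ∈ rad ∧ r ≠ 23 := by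
    have hT := termTab.1
    simp only [rad, List.map_cons, List.map_nil, List.cons.injEq, and_true] at hT
    obtain ⟨⟨a1, a2, a3, a4, a5, a6, a7, a8, a9⟩, ⟨b1, b2, b3, b4, b5, b6, b7, b8, b9⟩,
      c1, c2, c3, c4, c5, c6, c7, c8, c9⟩ := hT
    intro r hr
    simp only [rad, List.mem_cons, List.not_mem_nil, or_false] at hi hr
    rcases hi with rfl | rfl | rfl <;> rcases hr with rfl | rfl | rfl | rfl | rfl | rfl | rfl | rfl | rfl <;>
      first
        | exact Or.inl ‹_›
        | exact Or.inr ⟨_, _, ‹_›, by decide, by decide⟩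
  refine ⟨rootsU_conj_le fullD4.cert fun r hr u => ?_, fun d hd => ?_⟩
  · obtain ⟨hne, hneg⟩ := rad_ne i hi r hr
    rcases hcase r hr with h | ⟨c, M, h, hc, -⟩
    · show xr i t * xr r u * (xr i t)⁻¹ ∈ _
      rw [(commute_xr hi' (rad_lt r hr) hneg h t u).eq, mul_inv_cancel_right]
      exact xr_mem hr u
    · show xr i t * xr r u * (xr i t)⁻¹ ∈ _
      rw [conj_xr hi' (rad_lt r hr) hne hneg h t u]
      exact mul_mem (xr_mem hr u) (xr_mem hc _)
  · obtain ⟨w, rfl⟩ := mem_D1 hd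
    obtain ⟨hne, hneg⟩ := rad_ne i hi 23 (by decide)
    rcases hcase 23 (by decide) with h | ⟨c, M, h, -, h23⟩
    · rw [(commute_xr hi' (rad_lt 23 (by decide)) hneg h t w).eq, mul_inv_cancel_right]
    · exact absurd rfl h23

theorem cj_x_mu {i r : ℕ} (hi : i ∈ [18, 13, 12]) (hr : r ∈ rad) (t u : K) :
    (chevD4.commTerms i r = [] → cj (nrm_x hi t) (mu r u) = mu r u) ∧
    ∀ c M, chevD4.commTerms i r = [(c, M, 1, 1)] → c ∈ rad →
      cj (nrm_x hi t) (mu r u) = mu r u + mu c ((M : K) * t * u) := by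
  have hi' : i < chevD4.nroots := by
    simp only [List.mem_cons, List.not_mem_nil, or_false] at hi
    rcases hi with rfl | rfl | rfl <;> decide +kernel
  obtain ⟨hne, hneg⟩ := rad_ne i hi r hr
  refine ⟨fun h => ?_, fun c M h hc => ?_⟩
  · rw [mu_apply hr, cj_cls]
    exact congrArg cls (Subtype.ext (by
      show xr i t * xr r u * (xr i t)⁻¹ = xr r u
      rw [(commute_xr hi' (rad_lt r hr) hneg h t u).eq, mul_inv_cancel_right]))
  · rw [mu_apply hr, mu_apply hc, cj_cls, ← cls_mul]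
    exact congrArg cls (Subtype.ext (conj_xr hi' (rad_lt r hr) hne hneg h t u))

theorem cj_x_vec (t : K) (a14 a15 a16 a17 a19 a20 a21 a22 : K) :
    cj (nrm_x (show 18 ∈ [18, 13, 12] by decide) t) (vec a14 a15 a16 a17 a19 a20 a21 a22) =
        vec a14 a15 a16 a17 (a19 - t * a14) (a20 - t * a15) (a21 - t * a16) (a22 - t * a17) ∧
    cj (nrm_x (show 13 ∈ [18, 13, 12] by decide) t) (vec a14 a15 a16 a17 a19 a20 a21 a22) =
        vec a14 a15 (a16 + t * a14) (a17 + t * a15) a19 a20 (a21 + t * a19) (a22 + t * a20) ∧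
    cj (nrm_x (show 12 ∈ [18, 13, 12] by decide) t) (vec a14 a15 a16 a17 a19 a20 a21 a22) =
        vec a14 (a15 + t * a14) a16 (a17 + t * a16) a19 (a20 + t * a19) a21 (a22 + t * a21) := by
  have hT := termTab.1
  simp only [rad, List.map_cons, List.map_nil, List.cons.injEq, and_true] at hT
  obtain ⟨⟨a1, a2, a3, a4, a5, a6, a7, a8, -⟩, ⟨b1, b2, b3, b4, b5, b6, b7, b8, -⟩,
    c1, c2, c3, c4, c5, c6, c7, c8, -⟩ := hT
  refine ⟨?_, ?_, ?_⟩ <;> simp only [vec, map_add]
  · rw [(cj_x_mu (i := 18) (r := 14) (by decide) (by decide) t a14).2 _ _ a1 (by decide),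
      (cj_x_mu (i := 18) (r := 15) (by decide) (by decide) t a15).2 _ _ a2 (by decide),
      (cj_x_mu (i := 18) (r := 16) (by decide) (by decide) t a16).2 _ _ a3 (by decide),
      (cj_x_mu (i := 18) (r := 17) (by decide) (by decide) t a17).2 _ _ a4 (by decide),
      (cj_x_mu (i := 18) (r := 19) (by decide) (by decide) t a19).1 a5,
      (cj_x_mu (i := 18) (r := 20) (by decide) (by decide) t a20).1 a6,
      (cj_x_mu (i := 18) (r := 21) (by decide) (by decide) t a21).1 a7,
      (cj_x_mu (i := 18) (r := 22) (by decide) (by decide) t a22).1 a8]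
    simp only [map_sub, Int.cast_neg, Int.cast_one, neg_one_mul, neg_mul, map_neg, one_mul]
    abel
  · rw [(cj_x_mu (i := 13) (r := 14) (by decide) (by decide) t a14).2 _ _ b1 (by decide),
      (cj_x_mu (i := 13) (r := 15) (by decide) (by decide) t a15).2 _ _ b2 (by decide),
      (cj_x_mu (i := 13) (r := 16) (by decide) (by decide) t a16).1 b3,
      (cj_x_mu (i := 13) (r := 17) (by decide) (by decide) t a17).1 b4,
      (cj_x_mu (i := 13) (r := 19) (by decide) (by decide) t a19).2 _ _ b5 (by decide),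
      (cj_x_mu (i := 13) (r := 20) (by decide) (by decide) t a20).2 _ _ b6 (by decide),
      (cj_x_mu (i := 13) (r := 21) (by decide) (by decide) t a21).1 b7,
      (cj_x_mu (i := 13) (r := 22) (by decide) (by decide) t a22).1 b8]
    simp only [map_sub, Int.cast_neg, Int.cast_one, neg_one_mul, neg_mul, map_neg, one_mul]
    abel
  · rw [(cj_x_mu (i := 12) (r := 14) (by decide) (by decide) t a14).2 _ _ c1 (by decide),
      (cj_x_mu (i := 12) (r := 15) (by decide) (by decide) t a15).1 c2,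
      (cj_x_mu (i := 12) (r := 16) (by decide) (by decide) t a16).2 _ _ c3 (by decide),
      (cj_x_mu (i := 12) (r := 17) (by decide) (by decide) t a17).1 c4,
      (cj_x_mu (i := 12) (r := 19) (by decide) (by decide) t a19).2 _ _ c5 (by decide),
      (cj_x_mu (i := 12) (r := 20) (by decide) (by decide) t a20).1 c6,
      (cj_x_mu (i := 12) (r := 21) (by decide) (by decide) t a21).2 _ _ c7 (by decide),
      (cj_x_mu (i := 12) (r := 22) (by decide) (by decide) t a22).1 c8]
    simp only [map_sub, Int.cast_neg, Int.cast_one, neg_one_mul, neg_mul, map_neg, one_mul]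
    abel

theorem refl_eq (i : Fin chevD4.rank) (hi : (i : ℕ) ∈ [0, 2, 3]) (r : ℕ) (hr : r ∈ rad) (u : K) :
    nG fullD4.cert (chevD4.simple i) (1 : K) * xr r u * (nG fullD4.cert (chevD4.simple i) (1 : K))⁻¹ =
      xr (chevD4.reflectRoot i r) ((etaAt auxD4 i r : K) * u) := by
  have h1 := (acts_nG_simple fullD4 i (one_ne_zero (α := K))).conj ⟨r, rad_lt r hr⟩ u
  simp only [one_zpow, mul_one] at h1
  exact h1

theorem nrm_n (i : Fin chevD4.rank) (hi : (i : ℕ) ∈ [0, 2, 3]) :
    Nrm (nG fullD4.cert (chevD4.simple i) (1 : K)) := by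
  have hT : ∀ r ∈ rad, chevD4.reflectRoot i r ∈ rad ∧
      (r = 23 → chevD4.reflectRoot i r = 23 ∧ etaAt auxD4 i r = 1) := by
    have := reflTab
    simp only [rad, List.map_cons, List.map_nil, List.cons.injEq, and_true, Prod.mk.injEq] at this
    intro r hr
    simp only [rad, List.mem_cons, List.not_mem_nil, or_false] at hi hr
    rcases hi with hi | hi | hi <;> rw [hi] <;>
      rcases hr with rfl | rfl | rfl | rfl | rfl | rfl | rfl | rfl | rfl <;> simp [this, rad]
  refine ⟨rootsU_conj_le fullD4.cert fun r hr u => ?_, fun d hd => ?_⟩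
  · have := refl_eq i hi r hr u
    show nG fullD4.cert (chevD4.simple i) (1 : K) * xr r u * _ ∈ _
    rw [this]
    exact xr_mem (hT r hr).1 _
  · obtain ⟨w, rfl⟩ := mem_D1 hd
    obtain ⟨h1, h2⟩ := (hT 23 (by decide)).2 rfl
    rw [refl_eq i hi 23 (by decide) w, h1, h2, Int.cast_one, one_mul]

theorem cj_n_mu (i : Fin chevD4.rank) (hi : (i : ℕ) ∈ [0, 2, 3]) {r c : ℕ} {M : ℤ} (hr : r ∈ rad)
    (hc : c ∈ rad) (e : chevD4.reflectRoot i r = c ∧ etaAt auxD4 i r = M) (u : K) :
    cj (nrm_n i hi) (mu r u) = mu c ((M : K) * u) := by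
  rw [mu_apply hr, mu_apply hc, cj_cls]
  refine congrArg cls (Subtype.ext ?_)
  show nG fullD4.cert (chevD4.simple i) (1 : K) * xr r u * _ = _
  rw [refl_eq i hi r hr u, e.1, e.2]

theorem cj_n_vec (a14 a15 a16 a17 a19 a20 a21 a22 : K) :
    cj (nrm_n (⟨0, by decide⟩ : Fin chevD4.rank) (by decide)) (vec a14 a15 a16 a17 a19 a20 a21 a22) =
        vec a19 a20 a21 a22 (-a14) (-a15) (-a16) (-a17) ∧
    cj (nrm_n (⟨2, by decide⟩ : Fin chevD4.rank) (by decide)) (vec a14 a15 a16 a17 a19 a20 a21 a22) =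
        vec (-a16) (-a17) a14 a15 (-a21) (-a22) a19 a20 ∧
    cj (nrm_n (⟨3, by decide⟩ : Fin chevD4.rank) (by decide)) (vec a14 a15 a16 a17 a19 a20 a21 a22) =
        vec (-a15) a14 (-a17) a16 (-a20) a19 (-a22) a21 := by
  have hT := reflTab
  simp only [rad, List.map_cons, List.map_nil, List.cons.injEq, and_true, Prod.mk.injEq] at hT
  obtain ⟨⟨a1, a2, a3, a4, a5, a6, a7, a8, -⟩, ⟨b1, b2, b3, b4, b5, b6, b7, b8, -⟩,
    c1, c2, c3, c4, c5, c6, c7, c8, -⟩ := hT
  refine ⟨?_, ?_, ?_⟩ <;> simp only [vec, map_add]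
  · rw [cj_n_mu (⟨0, by decide⟩ : Fin chevD4.rank) (by decide) (r := 14) (c := 19) (by decide) (by decide) a1,
      cj_n_mu (⟨0, by decide⟩ : Fin chevD4.rank) (by decide) (r := 15) (c := 20) (by decide) (by decide) a2,
      cj_n_mu (⟨0, by decide⟩ : Fin chevD4.rank) (by decide) (r := 16) (c := 21) (by decide) (by decide) a3,
      cj_n_mu (⟨0, by decide⟩ : Fin chevD4.rank) (by decide) (r := 17) (c := 22) (by decide) (by decide) a4,
      cj_n_mu (⟨0, by decide⟩ : Fin chevD4.rank) (by decide) (r := 19) (c := 14) (by decide) (by decide) a5,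
      cj_n_mu (⟨0, by decide⟩ : Fin chevD4.rank) (by decide) (r := 20) (c := 15) (by decide) (by decide) a6,
      cj_n_mu (⟨0, by decide⟩ : Fin chevD4.rank) (by decide) (r := 21) (c := 16) (by decide) (by decide) a7,
      cj_n_mu (⟨0, by decide⟩ : Fin chevD4.rank) (by decide) (r := 22) (c := 17) (by decide) (by decide) a8]
    simp only [Int.cast_neg, Int.cast_one, one_mul, neg_one_mul, neg_mul, map_neg]
    abel
  · rw [cj_n_mu (⟨2, by decide⟩ : Fin chevD4.rank) (by decide) (r := 14) (c := 16) (by decide) (by decide) b1,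
      cj_n_mu (⟨2, by decide⟩ : Fin chevD4.rank) (by decide) (r := 15) (c := 17) (by decide) (by decide) b2,
      cj_n_mu (⟨2, by decide⟩ : Fin chevD4.rank) (by decide) (r := 16) (c := 14) (by decide) (by decide) b3,
      cj_n_mu (⟨2, by decide⟩ : Fin chevD4.rank) (by decide) (r := 17) (c := 15) (by decide) (by decide) b4,
      cj_n_mu (⟨2, by decide⟩ : Fin chevD4.rank) (by decide) (r := 19) (c := 21) (by decide) (by decide) b5,
      cj_n_mu (⟨2, by decide⟩ : Fin chevD4.rank) (by decide) (r := 20) (c := 22) (by decide) (by decide) b6,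
      cj_n_mu (⟨2, by decide⟩ : Fin chevD4.rank) (by decide) (r := 21) (c := 19) (by decide) (by decide) b7,
      cj_n_mu (⟨2, by decide⟩ : Fin chevD4.rank) (by decide) (r := 22) (c := 20) (by decide) (by decide) b8]
    simp only [Int.cast_neg, Int.cast_one, one_mul, neg_one_mul, neg_mul, map_neg]
    abel
  · rw [cj_n_mu (⟨3, by decide⟩ : Fin chevD4.rank) (by decide) (r := 14) (c := 15) (by decide) (by decide) c1,
      cj_n_mu (⟨3, by decide⟩ : Fin chevD4.rank) (by decide) (r := 15) (c := 14) (by decide) (by decide) c2,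
      cj_n_mu (⟨3, by decide⟩ : Fin chevD4.rank) (by decide) (r := 16) (c := 17) (by decide) (by decide) c3,
      cj_n_mu (⟨3, by decide⟩ : Fin chevD4.rank) (by decide) (r := 17) (c := 16) (by decide) (by decide) c4,
      cj_n_mu (⟨3, by decide⟩ : Fin chevD4.rank) (by decide) (r := 19) (c := 20) (by decide) (by decide) c5,
      cj_n_mu (⟨3, by decide⟩ : Fin chevD4.rank) (by decide) (r := 20) (c := 19) (by decide) (by decide) c6,
      cj_n_mu (⟨3, by decide⟩ : Fin chevD4.rank) (by decide) (r := 21) (c := 22) (by decide) (by decide) c7,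
      cj_n_mu (⟨3, by decide⟩ : Fin chevD4.rank) (by decide) (r := 22) (c := 21) (by decide) (by decide) c8]
    simp only [Int.cast_neg, Int.cast_one, one_mul, neg_one_mul, neg_mul, map_neg]
    abel

/-! ### The coordinates of the twisted group -/

variable (fr : K →+* K)

/-- The coordinates of the four layers. -/
noncomputable def lay (r t s v : K) : Additive (Mq K) :=
  vec r (fr (fr t)) (fr t) s (-t) (-fr s) (-fr (fr s)) (-v)

theorem lay_add (r t s v r' t' s' v' : K) :
    lay fr (r + r') (t + t') (s + s') (v + v') = lay fr r t s v + lay fr r' t' s' v' := by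
  simp only [lay, vec, map_add, neg_add]
  abel

theorem lay_eq_zero {r t s v : K} (h : lay fr r t s v = 0) : r = 0 ∧ t = 0 ∧ s = 0 ∧ v = 0 := by
  obtain ⟨h1, -, -, h4, h5, -, -, h8⟩ := vec_eq_zero h
  exact ⟨h1, neg_eq_zero.1 h5, h4, neg_eq_zero.1 h8⟩

/-- The image of a parameter under the twisted root subgroup of the short fundamental root. -/
theorem nrm_a (u : K) : Nrm (tx fullD4.cert fr (orbD4 1) u) := by
  obtain ⟨s0, -, s2, s3, -⟩ := d4Roots
  have e : tx fullD4.cert fr (orbD4 1) u = xr 18 u * xr 13 (fr u) * xr 12 (fr (fr u)) := by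
    simp [orbD4, tx, s0, s2, s3, d4p1, d4p3, d4p4, mul_assoc]
  rw [e]
  exact ((nrm_x (i := 18) (by decide) u).mul (nrm_x (i := 13) (by decide) (fr u))).mul
    (nrm_x (i := 12) (by decide) (fr (fr u)))

theorem nrm_w : Nrm (slN (tx fullD4.cert fr (orbD4 1)) (ty fullD4.cert fr (orbD4 1)) (1 : K)) := by
  have e : slN (tx fullD4.cert fr (orbD4 1)) (ty fullD4.cert fr (orbD4 1)) (1 : K) =
      nG fullD4.cert (chevD4.simple (⟨0, by decide⟩ : Fin chevD4.rank)) (1 : K) *
        (nG fullD4.cert (chevD4.simple (⟨2, by decide⟩ : Fin chevD4.rank)) (1 : K) *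
          nG fullD4.cert (chevD4.simple (⟨3, by decide⟩ : Fin chevD4.rank)) (1 : K)) := by
    have h3 : orbD4 1 = [⟨0, by decide⟩, ⟨2, by decide⟩, ⟨3, by decide⟩] := rfl
    have hO := d4Ortho 1
    rw [h3] at hO ⊢
    rw [slN_tx_cons fullD4 fr hO, slN_tx_cons fullD4 fr (List.pairwise_cons.1 hO).2,
      slN_tx_cons fullD4 fr (List.pairwise_cons.1 (List.pairwise_cons.1 hO).2).2]
    simp [slN, tx, ty]
  rw [e]
  exact (nrm_n (⟨0, by decide⟩ : Fin chevD4.rank) (by decide)).mul ((nrm_n (⟨2, by decide⟩ : Fin chevD4.rank) (by decide)).mul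
    (nrm_n (⟨3, by decide⟩ : Fin chevD4.rank) (by decide)))

theorem cj_a_lay {q : ℕ} (P : Frob fr q) (u r t s v : K) (hr : fr r = r) (hv : fr v = v) :
    cj (nrm_a fr u) (lay fr r t s v) =
      lay fr r (t + r * u) (s + gp fr u t + r * (fr u * fr (fr u)))
        (v + tr fr (u * s) + tr fr (t * (fr u * fr (fr u))) + r * nm fr u) := by
  obtain ⟨s0, -, s2, s3, -⟩ := d4Roots
  have e : tx fullD4.cert fr (orbD4 1) u = xr 18 u * xr 13 (fr u) * xr 12 (fr (fr u)) := by
    simp [orbD4, tx, s0, s2, s3, d4p1, d4p3, d4p4, mul_assoc]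
  rw [cj_congr (nrm_a fr u) (((nrm_x (i := 18) (by decide) u).mul (nrm_x (i := 13) (by decide) (fr u))).mul
    (nrm_x (i := 12) (by decide) (fr (fr u)))) e,
    cj_mul ((nrm_x (i := 18) (by decide) u).mul (nrm_x (i := 13) (by decide) (fr u)))
      (nrm_x (i := 12) (by decide) (fr (fr u))),
    cj_mul (nrm_x (i := 18) (by decide) u) (nrm_x (i := 13) (by decide) (fr u)), lay, (cj_x_vec _ _ _ _ _ _ _ _ _).2.2, (cj_x_vec _ _ _ _ _ _ _ _ _).2.1,
    (cj_x_vec _ _ _ _ _ _ _ _ _).1]
  simp only [lay, gp, tr, nm, map_add, map_mul, fr3 P, hr]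
  congr 1 <;> ring

theorem cj_w_lay (r t s v : K) (hr : fr r = r) (hv : fr v = v) :
    cj (nrm_w fr) (lay fr r t s v) = lay fr (-v) s (-t) r := by
  have e : slN (tx fullD4.cert fr (orbD4 1)) (ty fullD4.cert fr (orbD4 1)) (1 : K) =
      nG fullD4.cert (chevD4.simple (⟨0, by decide⟩ : Fin chevD4.rank)) (1 : K) *
        (nG fullD4.cert (chevD4.simple (⟨2, by decide⟩ : Fin chevD4.rank)) (1 : K) *
          nG fullD4.cert (chevD4.simple (⟨3, by decide⟩ : Fin chevD4.rank)) (1 : K)) := by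
    have h3 : orbD4 1 = [⟨0, by decide⟩, ⟨2, by decide⟩, ⟨3, by decide⟩] := rfl
    have hO := d4Ortho 1
    rw [h3] at hO ⊢
    rw [slN_tx_cons fullD4 fr hO, slN_tx_cons fullD4 fr (List.pairwise_cons.1 hO).2,
      slN_tx_cons fullD4 fr (List.pairwise_cons.1 (List.pairwise_cons.1 hO).2).2]
    simp [slN, tx, ty]
  rw [cj_congr (nrm_w fr) ((nrm_n (⟨0, by decide⟩ : Fin chevD4.rank) (by decide)).mul ((nrm_n (⟨2, by decide⟩ : Fin chevD4.rank) (by decide)).mul
    (nrm_n (⟨3, by decide⟩ : Fin chevD4.rank) (by decide)))) e,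
    cj_mul (nrm_n (⟨0, by decide⟩ : Fin chevD4.rank) (by decide))
      ((nrm_n (⟨2, by decide⟩ : Fin chevD4.rank) (by decide)).mul (nrm_n (⟨3, by decide⟩ : Fin chevD4.rank) (by decide))),
    cj_mul (nrm_n (⟨2, by decide⟩ : Fin chevD4.rank) (by decide)) (nrm_n (⟨3, by decide⟩ : Fin chevD4.rank) (by decide)),
    lay, (cj_n_vec _ _ _ _ _ _ _ _).2.2, (cj_n_vec _ _ _ _ _ _ _ _).2.1,
    (cj_n_vec _ _ _ _ _ _ _ _).1]
  simp only [lay, map_neg, neg_neg]

end CfsgLib.TwMult.D4
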