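import Cfsg.Agent.Lib.Twisted.FixedU
import Cfsg.Agent.Lib.Twisted.GraphAut
import Cfsg.Agent.Lib.TwMult.BruhatLift
import Cfsg.Agent.Lib.InvCentralizers.AutTwisted.E6

/-!
The twisted positive root orbits of ²E₆ in a filtering order, cocharacters separating any two of them, and for
each orbit either a way to write it as a sum of two others or a fundamental reflection to such an orbit.
-/

set_option autoImplicit false
set_option maxRecDepth 100000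

namespace CfsgLib.TwMult.E6

open Cfsg.Lie CfsgLib.Chevalley CfsgLib.InvCentralizers.AutTwisted
open CfsgLib.Twisted (Orb orbRoots checkOrd graphSigmaE6 graphEtaE6)

/-- The orbits, each tail being closed. -/
def oE6 : List Orb :=
  [(39, [39]), (42, [37, 42]), (46, [46]), (56, [36, 56]), (43, [40, 43]), (47, [47]), (57, [38, 57]),
   (44, [44]), (50, [48, 50]), (58, [41, 58]), (51, [51]), (59, [45, 59]), (61, [49, 61]), (53, [53]),
   (60, [60]), (62, [52, 62]), (63, [63]), (64, [54, 64]), (65, [65]), (67, [55, 67]), (68, [66, 68]),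
   (69, [69]), (70, [70]), (71, [71])]

/-- The roots of the `i`th orbit. -/
def oR (i : ℕ) : List ℕ := (oE6.getD i (0, [])).2

theorem oE6_ord : checkOrd chevE6 graphSigmaE6 oE6 = true := by decide +kernel

theorem oE6_single : ∀ i : Fin 24, checkOrd chevE6 graphSigmaE6 [oE6.getD i (0, [])] = true := by
  decide +kernel

theorem oE6_pos : ∀ r : Fin chevE6.nroots, chevE6.IsPosRoot r ↔ (r : ℕ) ∈ orbRoots oE6 := by
  decide +kernel

theorem oE6_filt : ∀ i j : Fin 24, ∀ r ∈ oR i, ∀ s ∈ oR j, s ≠ r → ∀ c ∈ chevE6.commTerms r s,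
    c.1 ∈ orbRoots (oE6.drop (max (i : ℕ) (j : ℕ) + 1)) := by
  decide +kernel

theorem oE6_tail : ∀ i : Fin 24, ∀ r ∈ orbRoots (oE6.drop ((i : ℕ) + 1)), r ∉ oR i := by
  decide +kernel

/-- The exponents of a torus element: `(a, b, c, d)` on the four orbits of nodes. -/
def mu6 (e : ℤ) (v : ℤ × ℤ × ℤ × ℤ) : List ℤ :=
  [v.2.2.1, v.1, v.2.2.2, v.2.1, e * v.2.2.2, e * v.2.2.1]

/-- The exponent at a root. -/
def pair6 (e : ℤ) (v : ℤ × ℤ × ℤ × ℤ) (r : ℕ) : ℤ :=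
  (mu6 e v).getD 0 0 * chevE6.cartan 0 r + (mu6 e v).getD 1 0 * chevE6.cartan 1 r +
    (mu6 e v).getD 2 0 * chevE6.cartan 2 r + (mu6 e v).getD 3 0 * chevE6.cartan 3 r +
    (mu6 e v).getD 4 0 * chevE6.cartan 4 r + (mu6 e v).getD 5 0 * chevE6.cartan 5 r

/-- The cocharacters used when `q ≥ 4`. -/
def cocGen : List (ℤ × ℤ × ℤ × ℤ) :=
  [(-2, -2, -1, -2), (-1, -2, -1, -1), (-2, -2, 0, -1), (0, -1, 0, -1), (0, 0, -1, -1), (-1, -1, -1, -1),
   (0, -2, -1, -2), (0, -2, -1, -1), (-1, -2, 0, -1), (-2, -2, 0, 0), (-2, -2, -1, -1)]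

/-- The cocharacters used when `q = 3`. -/
def cocThree : List (ℤ × ℤ × ℤ × ℤ) :=
  [(0, 0, 0, 2), (0, 4, 0, 0), (4, 0, 0, 0), (4, 4, 0, 4), (0, 4, 4, 0), (0, 0, 1, 6), (0, 0, 1, 3),
   (4, 0, 2, 1), (4, 4, 1, 6), (0, 0, 2, 3), (4, 0, 0, 4), (0, 4, 1, 1)]

theorem cocGen_free : ∀ j : Fin 24, ∃ v ∈ cocGen, ∀ r ∈ oR j,
    pair6 1 v r ≠ 0 ∧ (pair6 1 v r).natAbs ≤ 2 := by
  decide +kernel

theorem cocGen_kill : ∀ i j : Fin 24, i ≠ j → ∃ v ∈ cocGen, (∀ r ∈ oR i, pair6 1 v r = 0) ∧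
    ∀ r ∈ oR j, pair6 1 v r ≠ 0 ∧ (pair6 1 v r).natAbs ≤ 2 := by
  decide +kernel

theorem cocThree_free : ∀ j : Fin 24, ∃ v ∈ cocThree, ∀ r ∈ oR j, pair6 3 v r % 8 ≠ 0 := by
  decide +kernel

theorem cocThree_kill : ∀ i j : Fin 24, i ≠ j → ∃ v ∈ cocThree, (∀ r ∈ oR i, pair6 3 v r % 8 = 0) ∧
    ∀ r ∈ oR j, pair6 3 v r % 8 ≠ 0 := by
  decide +kernel

theorem cocThree_even : ∀ v ∈ cocThree, 2 * v.1 % 8 = 0 ∧ 2 * v.2.1 % 8 = 0 := by
  decide +kernel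

/-- `(a, b, c, ra, rb, rc)`: the root `ra` of the orbit `a` is the only sum `rb + rc` up to the symmetry. -/
def decE6 : List (ℕ × ℕ × ℕ × ℕ × ℕ × ℕ) :=
  [(5, 0, 2, 47, 39, 46), (6, 1, 3, 57, 42, 56), (9, 3, 4, 58, 56, 43), (10, 2, 7, 51, 46, 44),
   (11, 1, 9, 59, 37, 58), (12, 3, 8, 61, 56, 50), (13, 0, 10, 53, 39, 51), (15, 1, 12, 62, 37, 61),
   (16, 2, 14, 63, 46, 60), (17, 4, 12, 64, 40, 61), (18, 0, 16, 65, 39, 63), (19, 1, 17, 67, 42, 64),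
   (20, 3, 19, 68, 36, 67), (21, 7, 16, 69, 44, 63), (22, 0, 21, 70, 39, 69), (23, 2, 22, 71, 46, 70)]

/-- `(a, k, a')`: the fundamental reflection `k` takes the orbit `a` to the orbit `a'`, a sum. -/
def movE6 : List (ℕ × ℕ × ℕ) :=
  [(0, 0, 5), (1, 2, 6), (2, 1, 5), (3, 3, 6), (4, 2, 9), (7, 0, 10), (8, 2, 12), (14, 0, 16)]

theorem decE6_cover : ∀ i : Fin 24, (∃ d ∈ decE6, d.1 = (i : ℕ)) ∨
    ∃ m ∈ movE6, m.1 = (i : ℕ) ∧ ∃ d ∈ decE6, d.1 = m.2.2 := by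
  decide +kernel

/-- The roots `r`, `r'` commute and are different from each other's negative. -/
def commB (r r' : ℕ) : Bool :=
  !Nat.beq r r' && !Nat.beq r' (chevE6.neg r) && (chevE6.commTerms r r').isEmpty &&
    (chevE6.commTerms r' r).isEmpty

/-- The checks on a row of `decE6`. -/
def decB (d : ℕ × ℕ × ℕ × ℕ × ℕ × ℕ) : Bool :=
  let a := d.1; let b := d.2.1; let c := d.2.2.1; let ra := d.2.2.2.1; let rb := d.2.2.2.2.1
  let rc := d.2.2.2.2.2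
  decide (a < 24 ∧ b < 24 ∧ c < 24 ∧ a ≠ b ∧ a ≠ c ∧ ra ∈ oR a ∧ rb ∈ oR b ∧ rc ∈ oR c) &&
    (oR a).all (fun x => Nat.beq x ra || Nat.beq x (graphSigmaE6 ra)) &&
    ((oR a).all fun x => (oR b).all fun y => commB x y) &&
    ((oR a).all fun x => (oR c).all fun y => commB x y) &&
    (match chevE6.commTerms rc rb with
      | [(k, C, 1, 1)] => Nat.beq k ra && (C == 1 || C == -1)
      | _ => false) &&
    (if graphSigmaE6 ra = ra then decide (graphSigmaE6 rb = rb ∧ graphSigmaE6 rc = rc)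
      else decide (graphSigmaE6 rb ≠ rb ∧ graphSigmaE6 rc ≠ rc) &&
        commB rb (graphSigmaE6 rb) && commB rc (graphSigmaE6 rc) && commB rb (graphSigmaE6 rc) &&
        commB (graphSigmaE6 rb) rc &&
        (match chevE6.commTerms (graphSigmaE6 rc) (graphSigmaE6 rb) with
          | [(k, _, 1, 1)] => Nat.beq k (graphSigmaE6 ra)
          | _ => false))

theorem decE6_ok : ∀ d ∈ decE6, decB d = true := by decide +kernel

theorem graph_orb : ∀ i : Fin 24, ∀ r ∈ oR i, graphSigmaE6 r ∈ oR i ∧ graphSigmaE6 (graphSigmaE6 r) = r ∧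
    r < chevE6.nroots ∧ graphEtaE6 (graphSigmaE6 r) = graphEtaE6 r ∧
      (graphSigmaE6 r = r → graphEtaE6 r = 1) ∧ (graphSigmaE6 r ≠ r → commB r (graphSigmaE6 r) = true) := by
  decide +kernel

theorem movE6_ok : ∀ m ∈ movE6, ∃ h : m.2.1 < 4, m.1 < 24 ∧ m.2.2 < 24 ∧ ∀ r : Fin chevE6.nroots,
    (r : ℕ) ∈ oR m.1 →
      ((orbPerm CfsgLib.Twisted.fullE6.cert (orbE6 ⟨m.2.1, h⟩) r : Fin chevE6.nroots) : ℕ) ∈ oR m.2.2 := by
  decide +kernel

end CfsgLib.TwMult.E6
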